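/-
A simple group of order 244823040 with a subgroup of index 24 is the Mathieu group on 24 points.
-/
import Mathlib
import Cfsg.Agent.Lib.Spor.OctadGeom
import Cfsg.Agent.Lib.Spor.SixPoints
import Cfsg.Agent.Lib.Spor.M24Aut
import Cfsg.Agent.Lib.Spor.SetSystemConj
import Cfsg.Agent.Lib.Spor.Golay.SteinerUnique
import Cfsg.Agent.S1664

set_option autoImplicit false
set_option linter.style.haveILetI false

namespace CfsgLib.Spor.M24Order

open Cfsg MulAction
open scoped Pointwise

/-! ### Fixed points in the Mathieu group -/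

/-- A group with at most five given fixed points has order dividing that of the pointwise stabilizer. -/
theorem dvd_of_fixed {H : Subgroup (Equiv.Perm GolayPt)} (hH : H ≤ M24) {s : Finset GolayPt} {k : ℕ}
    (hk : k ≤ 5) (hs : s.card = k) (hfix : ∀ g ∈ H, ∀ q ∈ s, g q = q) :
    Nat.card H ∣ Nat.card (chainSub k) := by
  let e := s.equivFinOfCardEq hs
  let z : ℕ → GolayPt := fun i => if h : i < k then ((e.symm ⟨i, h⟩ : s) : GolayPt) else none
  have hz : ∀ i < k, ∀ j < k, z i = z j → i = j := fun i hi j hj h => by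
    simp only [z, dif_pos hi, dif_pos hj] at h
    exact congrArg Fin.val (e.symm.injective (Subtype.ext h))
  set F := M24 ⊓ ⨅ j : Fin k, stabilizer (Equiv.Perm GolayPt) (z j) with hF
  have hcard : Nat.card F = Nat.card (chainSub k) :=
    card_pointStabilizer hk z hz F (fun g => by simp [hF, Subgroup.mem_iInf, Fin.forall_iff])
  rw [← hcard]
  refine Subgroup.card_dvd_of_le (le_inf hH (le_iInf fun j g hg => ?_))
  rw [mem_stabilizer_iff, Equiv.Perm.smul_def]
  refine hfix g hg _ ?_
  simp only [z, dif_pos j.2]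
  exact (e.symm ⟨j.1, j.2⟩).2

/-- Eight points fixed by a subgroup of order 16 form an octad. -/
theorem octad_of_fixed {H : Subgroup (Equiv.Perm GolayPt)} (hH : H ≤ M24) (hc : Nat.card H = 16)
    {X : Finset GolayPt} (hX : X.card = 8) (hfix : ∀ g ∈ H, ∀ q ∈ X, g q = q) : X ∈ octads := by
  classical
  obtain ⟨s, hsX, hs⟩ := Finset.exists_subset_card_eq (s := X) (n := 5) (by omega)
  obtain ⟨o, ho, hso⟩ := exists_octad_superset hs
  by_cases hsub : X ⊆ o
  · rwa [Finset.eq_of_subset_of_card_le hsub (by rw [hX, octad_card ho])]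
  obtain ⟨p, hpX, hpo⟩ := Finset.not_subset.1 hsub
  have hps : p ∉ s := fun h => hpo (hso h)
  have ht : (insert p s).card = 6 := by rw [Finset.card_insert_of_notMem hps, hs]
  have hno : ¬ ∃ o' ∈ octads, insert p s ⊆ o' := by
    rintro ⟨o', ho', h'⟩
    have he : o' = o := octad_eq_of_five ho' ho
      (hs ▸ Finset.card_le_card (Finset.subset_inter ((Finset.subset_insert p s).trans h') hso))
    exact hpo (he ▸ h' (Finset.mem_insert_self p s))
  have h3 := ((six_points ht).2.2 hno).1
  let F : Subgroup (Equiv.Perm GolayPt) := M24 ⊓ fixingSubgroup _ ((insert p s : Finset GolayPt) : Set GolayPt)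
  have hmemF : ∀ g, g ∈ F ↔ g ∈ M24 ∧ ∀ q ∈ insert p s, g q = q := fun g => by
    simp [F, mem_fixingSubgroup_iff]
  have hF3 : Nat.card F = 3 := by
    rw [← h3]
    exact Nat.card_congr (Equiv.subtypeEquivRight hmemF)
  have hle : H ≤ F := fun g hg => (hmemF g).2 ⟨hH hg, fun q hq => hfix g hg q (by
    rcases Finset.mem_insert.1 hq with rfl | h
    · exact hpX
    · exact hsX h)⟩
  have hd := Subgroup.card_dvd_of_le hle
  rw [hc, hF3] at hd
  norm_num at hd

/-- An element of prime order fixes as many points of an invariant set as its size, modulo the prime. -/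
theorem fix_modEq {p : ℕ} [Fact p.Prime] (σ : Equiv.Perm GolayPt) (hσ : σ ^ p = 1) (S : Finset GolayPt)
    (hinv : ∀ q, σ q ∈ S ↔ q ∈ S) : (S.filter fun q => σ q = q).card ≡ S.card [MOD p] := by
  classical
  set τ : Equiv.Perm {q // q ∈ S} := σ.subtypePerm hinv with hτ
  have h : τ ^ p ^ 1 = 1 := by
    rw [pow_one, hτ, Equiv.Perm.subtypePerm_pow]
    exact Equiv.ext fun q => Subtype.ext (by simp [hσ])
  have h1 := Equiv.Perm.card_compl_support_modEq h
  rw [Fintype.card_coe] at h1
  refine Eq.trans ?_ h1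
  congr 1
  refine Finset.card_bij (fun q hq => (⟨q, (Finset.mem_filter.1 hq).1⟩ : {q // q ∈ S})) (fun q hq => ?_)
    (fun a _ b _ e => congrArg Subtype.val e) fun b hb => ?_
  · rw [Finset.mem_compl, Equiv.Perm.mem_support, not_not]
    exact Subtype.ext (Finset.mem_filter.1 hq).2
  · rw [Finset.mem_compl, Equiv.Perm.mem_support, not_not] at hb
    exact ⟨b.1, Finset.mem_filter.2 ⟨b.2, congrArg Subtype.val hb⟩, rfl⟩

/-- A subgroup of order 443520 fixing a point fixes another. -/
theorem exists_fixed_point {H : Subgroup (Equiv.Perm GolayPt)} (hH : H ≤ M24)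
    (hnone : ∀ g ∈ H, g none = none) (hc : Nat.card H = 443520) :
    ∃ p : GolayPt, p ≠ none ∧ ∀ g ∈ H, g p = p := by
  classical
  haveI : Fact (Nat.Prime 11) := ⟨by norm_num⟩
  haveI : Fact (Nat.Prime 7) := ⟨by norm_num⟩
  obtain ⟨⟨x, hxH⟩, hx⟩ := exists_prime_orderOf_dvd_card' (G := H) 11 (by rw [hc]; norm_num)
  obtain ⟨⟨y, hyH⟩, hy⟩ := exists_prime_orderOf_dvd_card' (G := H) 7 (by rw [hc]; norm_num)
  rw [Subgroup.orderOf_mk] at hx hy
  have hx1 : x ^ 11 = 1 := hx ▸ pow_orderOf_eq_one x
  have hy1 : y ^ 7 = 1 := hy ▸ pow_orderOf_eq_one y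
  have hzfix : ∀ {z : Equiv.Perm GolayPt} {q : GolayPt}, z q = q → ∀ g ∈ Subgroup.zpowers z, g q = q :=
    fun {z q} hz g hg => (Subgroup.zpowers_le.2 (show z ∈ stabilizer (Equiv.Perm GolayPt) q from hz) hg :)
  have bound : ∀ {z : Equiv.Perm GolayPt}, z ∈ H → ∀ {k : ℕ}, k ≤ 5 → ¬ orderOf z ∣ Nat.card (chainSub k) →
      (Finset.univ.filter fun q => z q = q).card < k := by
    intro z hz k hk hnd
    by_contra hle
    obtain ⟨s, hs, hsc⟩ := Finset.exists_subset_card_eq (not_lt.1 hle)
    refine hnd ?_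
    have h := dvd_of_fixed (Subgroup.zpowers_le.2 (hH hz)) hk hsc
      (fun g hg q hq => hzfix (Finset.mem_filter.1 (hs hq)).2 g hg)
    rwa [Nat.card_zpowers] at h
  have hfx : (Finset.univ.filter fun q => x q = q).card < 3 := bound hxH (by norm_num) (by
    rw [hx, card_chainSub 3 (by norm_num)]; decide +kernel)
  have hfy : (Finset.univ.filter fun q => y q = q).card < 5 := bound hyH le_rfl (by
    rw [hy, card_chainSub 5 (by norm_num)]; decide +kernel)
  set S := (Finset.univ : Finset GolayPt).erase none with hS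
  have hinv : ∀ g ∈ H, ∀ q, g q ∈ S ↔ q ∈ S := fun g hg q => by
    simp only [hS, Finset.mem_erase, Finset.mem_univ, and_true, ne_eq]
    rw [not_iff_not]
    exact ⟨fun h => g.injective (h.trans (hnone g hg).symm), fun h => by rw [h, hnone g hg]⟩
  have hS23 : S.card = 23 := by
    rw [hS, Finset.card_erase_of_mem (Finset.mem_univ _)]; rfl
  have hm := fix_modEq x hx1 S (hinv x hxH)
  rw [hS23] at hm
  obtain ⟨p, hp⟩ : (S.filter fun q => x q = q).Nonempty := by
    rw [← Finset.card_pos]
    by_contra h0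
    rw [Nat.eq_zero_of_not_pos h0] at hm
    exact absurd hm (by decide)
  obtain ⟨hpS, hpx⟩ := Finset.mem_filter.1 hp
  have hp0 : p ≠ none := (Finset.mem_erase.1 hpS).1
  refine ⟨p, hp0, ?_⟩
  set O : Finset GolayPt := (MulAction.orbit H p).toFinset with hO
  have hOinv : ∀ g ∈ H, ∀ q, g q ∈ O ↔ q ∈ O := fun g hg q => by
    rw [hO, Set.mem_toFinset, Set.mem_toFinset, ← MulAction.orbit_eq_iff, ← MulAction.orbit_eq_iff (a := q),
      show g q = (⟨g, hg⟩ : H) • q from rfl, MulAction.orbit_smul]
  have hOS : O ⊆ S := fun q hq => by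
    rw [hO, Set.mem_toFinset] at hq
    obtain ⟨⟨g, hg⟩, rfl⟩ := hq
    exact (hinv g hg p).2 hpS
  have hOcard : O.card * Nat.card (stabilizer H p) = 443520 := by
    rw [hO, ← Set.ncard_eq_toFinset_card', ← Nat.card_coe_set_eq, Nat.card_congr (orbitEquivQuotientStabilizer H p),
      ← Subgroup.index, Subgroup.index_mul_card, hc]
  have hOle : O.card ≤ 23 := hS23 ▸ Finset.card_le_card hOS
  -- the fixed point of the element of order eleven lies in the orbit
  have hone : (O.filter fun q => x q = q).card = 1 := by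
    refine le_antisymm ?_ (Finset.card_pos.2 ⟨p, Finset.mem_filter.2 ⟨?_, hpx⟩⟩)
    · have h2 : insert none (O.filter fun q => x q = q) ⊆ Finset.univ.filter fun q => x q = q := by
        intro q hq
        rcases Finset.mem_insert.1 hq with rfl | hq
        · exact Finset.mem_filter.2 ⟨Finset.mem_univ _, hnone x hxH⟩
        · exact Finset.mem_filter.2 ⟨Finset.mem_univ _, (Finset.mem_filter.1 hq).2⟩
      have h3 := Finset.card_le_card h2
      rw [Finset.card_insert_of_notMem (fun h => (Finset.mem_erase.1 (hOS (Finset.mem_filter.1 h).1)).1 rfl)] at h3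
      omega
    · rw [hO, Set.mem_toFinset]; exact MulAction.mem_orbit_self p
  have hmod := fix_modEq x hx1 O (hOinv x hxH)
  rw [hone] at hmod
  have hcases : O.card = 1 ∨ O.card = 12 := by
    have hd : O.card ∣ 443520 := Dvd.intro _ hOcard
    have : O.card ≠ 23 := fun e => by rw [e] at hd; norm_num at hd
    rw [Nat.ModEq] at hmod
    omega
  rcases hcases with h1 | h12
  · intro g hg
    obtain ⟨r, hr⟩ := Finset.card_eq_one.1 h1
    have hpO : p ∈ O := by rw [hO, Set.mem_toFinset]; exact MulAction.mem_orbit_self p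
    have hgO := (hOinv g hg p).2 hpO
    rw [hr, Finset.mem_singleton] at hpO hgO
    rw [hgO, hpO]
  · exfalso
    have hT : (S \ O).card = 11 := by rw [Finset.card_sdiff_of_subset hOS, hS23, h12]
    have h4 := fix_modEq y hy1 (S \ O) (fun q => by
      simp only [Finset.mem_sdiff, hinv y hyH q, hOinv y hyH q])
    rw [hT, Nat.ModEq] at h4
    have h2 : insert none ((S \ O).filter fun q => y q = q) ⊆ Finset.univ.filter fun q => y q = q := by
      intro q hq
      rcases Finset.mem_insert.1 hq with rfl | hq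
      · exact Finset.mem_filter.2 ⟨Finset.mem_univ _, hnone y hyH⟩
      · exact Finset.mem_filter.2 ⟨Finset.mem_univ _, (Finset.mem_filter.1 hq).2⟩
    have h3 := Finset.card_le_card h2
    rw [Finset.card_insert_of_notMem (fun h =>
      (Finset.mem_erase.1 (Finset.mem_sdiff.1 (Finset.mem_filter.1 h).1).1).1 rfl)] at h3
    simp only [hS] at h3 h4
    omega

/-! ### Groups of order 10200960 acting on 23 points -/

/-- A transitive group of degree 23 and order 10200960 is simple. -/
theorem isSimpleGroup_of_degree {M : Type*} [Group M] [Finite M] {β : Type*} [Fintype β] [MulAction M β]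
    [FaithfulSMul M β] [IsPretransitive M β] (hβ : Nat.card β = 23) (hc : Nat.card M = 10200960) :
    IsSimpleGroup M := by
  classical
  haveI : Fact (Nat.Prime 23) := ⟨by norm_num⟩
  haveI : Nontrivial M := Finite.one_lt_card_iff_nontrivial.1 (by rw [hc]; norm_num)
  haveI : IsPreprimitive M β := IsPreprimitive.of_prime_card (by rw [hβ]; norm_num)
  refine ⟨fun N hN => or_iff_not_imp_left.2 fun hbot => ?_⟩
  haveI := hN
  -- a nontrivial normal subgroup is transitive
  have htrans : ∀ (K : Subgroup M) [K.Normal], K ≠ ⊥ → 23 ∣ Nat.card K := by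
    intro K _ hK
    have hfix : fixedPoints K β ≠ .univ := by
      intro h
      refine hK (eq_bot_iff.2 fun k hk => Subgroup.mem_bot.2 (eq_of_smul_eq_smul fun b : β => ?_))
      rw [one_smul]
      exact (h.ge (Set.mem_univ b)) ⟨k, hk⟩
    haveI := IsQuasiPreprimitive.isPretransitive_of_normal (G := M) (X := β) hfix
    haveI : Nonempty β := (Nat.card_pos_iff.1 (by rw [hβ]; norm_num)).1
    obtain ⟨b⟩ := (inferInstance : Nonempty β)
    have h := (MulAction.index_stabilizer_of_transitive K b)
    rw [hβ] at h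
    exact h ▸ Subgroup.index_dvd_card _
  have h23 := htrans N hbot
  obtain ⟨P⟩ : Nonempty (Sylow 23 M) := inferInstance
  have hPc : Nat.card (P : Subgroup M) = 23 := by
    rw [P.card_eq_multiplicity, hc]
    have : (10200960 : ℕ).factorization 23 = 1 := by
      rw [show (10200960 : ℕ) = 23 * 443520 by norm_num, Nat.factorization_mul (by norm_num) (by norm_num),
        Finsupp.add_apply, Nat.Prime.factorization_self (by norm_num),
        Nat.factorization_eq_zero_of_not_dvd (by norm_num)]
    rw [this, pow_one]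
  have hPN : (P : Subgroup M) ≤ N := by
    obtain ⟨⟨n, hn⟩, hno⟩ := exists_prime_orderOf_dvd_card' (G := N) 23 h23
    rw [Subgroup.orderOf_mk] at hno
    have hp : IsPGroup 23 (Subgroup.zpowers n) := IsPGroup.of_card (n := 1) (by rw [Nat.card_zpowers, hno, pow_one])
    obtain ⟨Q, hQ⟩ := hp.exists_le_sylow
    have hQN : (Q : Subgroup M) ≤ N := by
      rw [← Subgroup.eq_of_le_of_card_ge hQ (by rw [Sylow.card_eq_multiplicity, ← P.card_eq_multiplicity, hPc,
        Nat.card_zpowers, hno])]
      exact Subgroup.zpowers_le.2 hn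
    obtain ⟨g, rfl⟩ := MulAction.exists_smul_eq M Q P
    rintro _ ⟨q, hq, rfl⟩
    exact hN.conj_mem q (hQN hq) g
  -- the normalizer of the Sylow subgroup
  set R := Subgroup.normalizer ((P : Subgroup M) : Set M) with hR
  haveI : IsCyclic (P : Subgroup M) := isCyclic_of_prime_card hPc
  have hP1 : (P : Subgroup M) ≠ ⊥ := fun e => by rw [e, Subgroup.card_bot] at hPc; norm_num at hPc
  have hR506 : Nat.card R ∣ 506 := by
    obtain ⟨b⟩ : Nonempty β := (Nat.card_pos_iff.1 (by rw [hβ]; norm_num)).1
    have hPtrans : IsPretransitive (P : Subgroup M) β := by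
      obtain ⟨c, hc'⟩ : ∃ c : β, MulAction.orbit (P : Subgroup M) c ≠ {c} := by
        by_contra hall
        push Not at hall
        refine hP1 (eq_bot_iff.2 fun k hk => Subgroup.mem_bot.2 (eq_of_smul_eq_smul fun c : β => ?_))
        rw [one_smul]
        exact (hall c).le ⟨⟨k, hk⟩, rfl⟩
      have hd : (MulAction.orbit (P : Subgroup M) c).ncard ∣ 23 := by
        rw [← Nat.card_coe_set_eq, Nat.card_congr (orbitEquivQuotientStabilizer (P : Subgroup M) c)]
        have hh := Subgroup.index_dvd_card (stabilizer (P : Subgroup M) c)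
        rwa [hPc] at hh
      rcases (Nat.dvd_prime (by norm_num : Nat.Prime 23)).1 hd with h1 | h1
      · obtain ⟨r, hr⟩ := Set.ncard_eq_one.1 h1
        refine absurd ?_ hc'
        have := hr ▸ MulAction.mem_orbit_self (M := (P : Subgroup M)) c
        rw [hr, Set.mem_singleton_iff.1 this]
      · refine MulAction.isPretransitive_iff_orbit_eq_univ c |>.2 (Set.eq_univ_of_forall fun d => ?_)
        rw [(Set.eq_univ_iff_ncard _).2 (h1.trans hβ.symm)]
        exact Set.mem_univ d
    have horb : (MulAction.orbit R b).ncard ∣ 23 := by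
      have : MulAction.orbit R b = Set.univ := Set.eq_univ_of_forall fun d => by
        obtain ⟨⟨k, hk⟩, hkd⟩ := exists_smul_eq (P : Subgroup M) b d
        exact ⟨⟨k, Subgroup.le_normalizer hk⟩, hkd⟩
      rw [this, Set.ncard_univ, hβ]
    let ψ : stabilizer R b →* MulAut (P : Subgroup M) :=
      ((P : Subgroup M).normalizerMonoidHom).comp (stabilizer R b).subtype
    have hψ : Function.Injective ψ := by
      refine (injective_iff_map_eq_one ψ).2 fun s hs => ?_
      refine Subtype.ext (Subtype.ext (eq_of_smul_eq_smul fun d : β => ?_))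
      obtain ⟨⟨k, hk⟩, rfl⟩ := exists_smul_eq (P : Subgroup M) b d
      have h1 : ((s.1 : M) * k * (s.1 : M)⁻¹) = k :=
        congrArg Subtype.val (DFunLike.congr_fun hs (⟨k, hk⟩ : (P : Subgroup M)))
      have h2 : (s.1 : M) • b = b := s.2
      show (s.1 : M) • k • b = (1 : M) • k • b
      rw [one_smul, ← mul_smul, mul_inv_eq_iff_eq_mul.1 h1, mul_smul, h2]
    have hst : Nat.card (stabilizer R b) ∣ 22 := by
      have := Subgroup.card_dvd_of_injective ψ hψ
      rwa [IsCyclic.card_mulAut, hPc, Nat.totient_prime (by norm_num)] at this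
    have h := Subgroup.card_mul_index (stabilizer R b)
    rw [Subgroup.index, ← Nat.card_congr (orbitEquivQuotientStabilizer R b), Nat.card_coe_set_eq] at h
    rw [← h, show 506 = 22 * 23 by norm_num]
    exact mul_dvd_mul hst horb
  have hsyl := card_sylow_modEq_one 23 M
  rw [P.card_eq_index_normalizer] at hsyl
  change R.index ≡ 1 [MOD 23] at hsyl
  have hRi := R.card_mul_index
  rw [hc] at hRi
  have hR253 : Nat.card R = 253 := by
    have h23R : 23 ∣ Nat.card R := hPc ▸ Subgroup.card_dvd_of_le Subgroup.le_normalizer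
    obtain ⟨c, hcR⟩ := h23R
    have hc22 : c ∣ 22 := Nat.dvd_of_mul_dvd_mul_left (show 0 < 23 by norm_num) (hcR ▸ hR506)
    have hc22' : c ≤ 22 := Nat.le_of_dvd (by norm_num) hc22
    rw [hcR] at hRi
    rw [Nat.ModEq] at hsyl
    rw [hcR]
    interval_cases c <;> omega
  -- the trace of the normalizer in the normal subgroup
  set RN := R ⊓ N with hRN
  have hRNc : Nat.card RN = 23 ∨ Nat.card RN = 253 := by
    have h1 : 23 ∣ Nat.card RN := hPc ▸ Subgroup.card_dvd_of_le (le_inf Subgroup.le_normalizer hPN)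
    obtain ⟨c, hcR⟩ := h1
    have h2 := Subgroup.card_dvd_of_le (inf_le_left : RN ≤ R)
    rw [hcR, hR253, show 253 = 23 * 11 by norm_num] at h2
    rcases (Nat.dvd_prime (by norm_num : Nat.Prime 11)).1 (Nat.dvd_of_mul_dvd_mul_left (by norm_num) h2) with rfl | rfl
    · left; omega
    · right; omega
  rcases hRNc with h | h
  · -- a normal complement, which is intransitive
    exfalso
    let PN : Sylow 23 N := P.subtype hPN
    have hnc : Subgroup.normalizer ((PN : Subgroup N) : Set N) ≤
        Subgroup.centralizer ((PN : Subgroup N) : Set N) := by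
      intro u hu
      have huR : (u : M) ∈ RN := by
        refine Subgroup.mem_inf.2 ⟨?_, u.2⟩
        rw [hR, Subgroup.mem_normalizer_iff]
        intro k
        rw [Subgroup.mem_normalizer_iff] at hu
        constructor
        · intro hk
          exact ((hu ⟨k, hPN hk⟩).1 (by simpa [PN, Subgroup.mem_subgroupOf] using hk) :)
        · intro hk
          have hkN : k ∈ N := by
            have := N.mul_mem (N.mul_mem (N.inv_mem u.2) (hPN hk)) u.2
            simpa [mul_assoc] using this
          exact ((hu ⟨k, hkN⟩).2 (by simpa [PN, Subgroup.mem_subgroupOf] using hk) :)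
      have heq : (P : Subgroup M) = RN := Subgroup.eq_of_le_of_card_ge (le_inf Subgroup.le_normalizer hPN)
        (by rw [h, hPc])
      rw [← heq] at huR
      rw [Subgroup.mem_centralizer_iff]
      intro k hk
      have hk' : (k : M) ∈ (P : Subgroup M) := by simpa [PN, Subgroup.mem_subgroupOf] using hk
      refine Subtype.ext ?_
      show (k : M) * (u : M) = (u : M) * (k : M)
      exact congrArg (fun z : (P : Subgroup M) => (z : M))
        (IsCyclic.commGroup.mul_comm (⟨(k : M), hk'⟩ : (P : Subgroup M)) ⟨(u : M), huR⟩)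
    have hcomp := MonoidHom.ker_transferSylow_isComplement' PN hnc
    set K := (MonoidHom.transferSylow PN hnc).ker with hK
    have hKc := hcomp.card_mul
    rw [show Nat.card (PN : Subgroup N) = 23 from
      (Nat.card_congr (Subgroup.subgroupOfEquivOfLe hPN).toEquiv).trans hPc] at hKc
    have hK23 : ¬ 23 ∣ Nat.card K := by
      intro hd
      obtain ⟨j, hj⟩ := hd
      have h2 : 23 * 23 ∣ Nat.card N := ⟨j, by rw [← hKc, hj]; ring⟩
      have h3 : 23 * 23 ∣ 10200960 := h2.trans (hc ▸ N.card_subgroup_dvd_card)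
      norm_num at h3
    haveI : K.Characteristic := by
      refine Subgroup.characteristic_iff_comap_eq.2 fun φ => ?_
      have hidx : K.index = 23 := by
        have := K.card_mul_index
        rw [← hKc] at this
        exact Nat.eq_of_mul_eq_mul_left Nat.card_pos this
      refine Subgroup.eq_of_le_of_card_ge (fun k hk => ?_) ?_
      · by_contra hkK
        have h1 : orderOf (QuotientGroup.mk' K k) ∣ orderOf k := orderOf_map_dvd _ _
        have h2 : orderOf (QuotientGroup.mk' K k) ∣ 23 := by
          have := orderOf_dvd_natCard (QuotientGroup.mk' K k)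
          rwa [← Subgroup.index, hidx] at this
        have h3 : orderOf k ∣ Nat.card K := by
          have := orderOf_dvd_natCard (⟨φ k, hk⟩ : K)
          rw [← Subgroup.orderOf_coe] at this
          change orderOf (φ k) ∣ _ at this
          rwa [MulEquiv.orderOf_eq] at this
        rcases (Nat.dvd_prime (by norm_num : Nat.Prime 23)).1 h2 with e | e
        · exact hkK ((QuotientGroup.eq_one_iff k).1 (orderOf_eq_one_iff.1 e))
        · exact hK23 (e ▸ h1.trans h3)
      · exact le_of_eq (Nat.card_congr (Equiv.subtypeEquiv φ.toEquiv fun k => Iff.rfl)).symm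
    have hKn : (K.map N.subtype).Normal := inferInstance
    have hK1 : K.map N.subtype ≠ ⊥ := by
      intro e
      have h2 : Nat.card (K.map N.subtype) = 1 := by rw [e, Subgroup.card_bot]
      rw [Subgroup.card_map_of_injective N.subtype_injective] at h2
      rw [h2, one_mul] at hKc
      have h4 : N = (P : Subgroup M) := (Subgroup.eq_of_le_of_card_ge hPN (by rw [hPc, hKc])).symm
      have h5 : R = ⊤ := by
        rw [hR, Subgroup.normalizer_eq_top_iff, ← h4]
        exact hN
      rw [h5, Subgroup.card_top, hc] at hR253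
      norm_num at hR253
    exact hK23 (by
      have := htrans _ hK1
      rwa [Subgroup.card_map_of_injective N.subtype_injective] at this)
  · -- the normalizer lies inside: Frattini
    have hRle : R ≤ N := by
      rw [← Subgroup.eq_of_le_of_card_ge (inf_le_left : RN ≤ R) (by rw [h, hR253])]
      exact inf_le_right
    have hfr : Subgroup.normalizer (((P.subtype hPN : Subgroup N).map N.subtype : Subgroup M) : Set M) ⊔ N = ⊤ :=
      Sylow.normalizer_sup_eq_top _
    rw [Sylow.coe_subtype, Subgroup.map_subgroupOf_eq_of_le hPN, ← hR, sup_eq_right.2 hRle] at hfr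
    exact hfr

/-! ### The identification -/

variable {G : Type*} [Group G] [Finite G]

/-- **A simple group of order 244823040 with a subgroup of index 24 is `M₂₄`.** -/
theorem iso_of_index [IsSimpleGroup G] (hcard : Nat.card G = 244823040) (M : Subgroup G) (hM : M.index = 24) :
    Nonempty (G ≃* Cfsg.M24) := by
  classical
  haveI : Fintype (G ⧸ M) := Fintype.ofFinite _
  set base : G ⧸ M := ((1 : G) : G ⧸ M) with hbase
  have hα : Nat.card (G ⧸ M) = 24 := hM
  have hMc : Nat.card M = 10200960 := by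
    have := M.card_mul_index
    rw [hcard, hM] at this
    omega
  have hstab : ∀ g : G, g • base = base ↔ g ∈ M := fun g => by
    rw [hbase, MulAction.Quotient.smul_coe, smul_eq_mul, mul_one, QuotientGroup.eq, mul_one, inv_mem_iff]
  set ι := MulAction.toPermHom G (G ⧸ M) with hι
  have hinj : Function.Injective ι := by
    rw [← MonoidHom.ker_eq_bot_iff]
    refine (ι.normal_ker.eq_bot_or_eq_top).resolve_right fun htop => ?_
    have : M = ⊤ := eq_top_iff.2 fun g _ => (hstab g).1
      (DFunLike.congr_fun (MonoidHom.mem_ker.1 (htop ▸ Subgroup.mem_top g)) base)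
    rw [this, Subgroup.index_top] at hM
    norm_num at hM
  -- the stabilizer is transitive on the others
  let β : Type _ := {x : G ⧸ M // x ≠ base}
  letI actβ : MulAction M β :=
    { smul := fun m x => ⟨(m : G) • x.1, fun e => x.2 (by
        rw [← inv_smul_smul (m : G) x.1, e, (hstab _).2 (M.inv_mem m.2)])⟩
      one_smul := fun x => Subtype.ext (one_smul G x.1)
      mul_smul := fun a b x => Subtype.ext (mul_smul (a : G) (b : G) x.1) }
  have hsmul : ∀ (m : M) (x : β), ((m • x : β) : G ⧸ M) = (m : G) • (x : G ⧸ M) := fun _ _ => rfl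
  haveI : Fintype β := Fintype.ofFinite _
  have hβ : Nat.card β = 23 := by
    rw [Nat.card_eq_fintype_card, Fintype.card_subtype_compl, Fintype.card_subtype_eq, ← Nat.card_eq_fintype_card, hα]
  haveI : Fact (Nat.Prime 23) := ⟨by norm_num⟩
  obtain ⟨x, hx⟩ := exists_prime_orderOf_dvd_card' (G := M) 23 (by rw [hMc]; norm_num)
  haveI : FaithfulSMul M β := ⟨fun {a b} h => Subtype.ext (hinj (Equiv.ext fun y => by
    show (a : G) • y = (b : G) • y
    by_cases hy : y = base
    · rw [hy, (hstab _).2 a.2, (hstab _).2 b.2]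
    · exact congrArg Subtype.val (h ⟨y, hy⟩)))⟩
  haveI : IsPretransitive M β := by
    obtain ⟨q, hq⟩ : ∃ q : β, x • q ≠ q := by
      by_contra hall
      push Not at hall
      have : x = 1 := eq_of_smul_eq_smul fun y : β => by rw [hall y, one_smul]
      rw [this, orderOf_one] at hx
      norm_num at hx
    have h1 : (MulAction.orbit (Subgroup.zpowers x) q).ncard = 23 := by
      have hd : (MulAction.orbit (Subgroup.zpowers x) q).ncard ∣ 23 := by
        rw [← Nat.card_coe_set_eq, Nat.card_congr (orbitEquivQuotientStabilizer (Subgroup.zpowers x) q),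
          ← Subgroup.index, ← hx, ← Nat.card_zpowers]
        exact Subgroup.index_dvd_card _
      refine ((Nat.dvd_prime (by norm_num : Nat.Prime 23)).1 hd).resolve_left fun h1 => hq ?_
      obtain ⟨r, hr⟩ := Set.ncard_eq_one.1 h1
      have e1 : (⟨x, Subgroup.mem_zpowers x⟩ : Subgroup.zpowers x) • q ∈ MulAction.orbit (Subgroup.zpowers x) q :=
        MulAction.mem_orbit q _
      have e2 := MulAction.mem_orbit_self (M := Subgroup.zpowers x) q
      rw [hr, Set.mem_singleton_iff] at e1 e2
      exact e1.trans e2.symm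
    refine (MulAction.isPretransitive_iff_orbit_eq_univ q).2 (Set.eq_univ_of_forall fun y => ?_)
    have h2 : MulAction.orbit (Subgroup.zpowers x) q = Set.univ := (Set.eq_univ_iff_ncard _).2 (h1.trans hβ.symm)
    obtain ⟨⟨k, hk⟩, rfl⟩ := h2.ge (Set.mem_univ y)
    exact ⟨k, rfl⟩
  obtain ⟨e⟩ := Cfsg.Agent.S1664.result (G := M) ⟨isSimpleGroup_of_degree hβ hMc, hMc⟩
  -- identify the points
  obtain ⟨q0⟩ : Nonempty β := (Nat.card_pos_iff.1 (by rw [hβ]; norm_num)).1
  let σ : M →* Equiv.Perm GolayPt := Cfsg.Spor.M23.subtype.comp e.toMonoidHom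
  have hσ24 : ∀ m, σ m ∈ M24 := fun m => (e m).2.1
  have hσnone : ∀ m, σ m none = none := fun m => (e m).2.2
  have hσinj : Function.Injective σ := Subtype.val_injective.comp e.injective
  set H := stabilizer M q0 with hH
  have hHc : Nat.card H = 443520 := by
    have h := H.card_mul_index
    rw [hH, MulAction.index_stabilizer_of_transitive M q0, hβ, hMc] at h
    rw [hH]
    omega
  obtain ⟨p, hp0, hp⟩ := exists_fixed_point (H := H.map σ) (by rintro _ ⟨m, -, rfl⟩; exact hσ24 m)
    (by rintro _ ⟨m, -, rfl⟩; exact hσnone m) (by rw [Subgroup.card_map_of_injective hσinj, hHc])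
  have hstab2 : ∀ m : M, σ m p = p ↔ m ∈ H := by
    set K := (MulAction.stabilizer (Equiv.Perm GolayPt) p).comap σ with hK
    have hle : H ≤ K := fun m hm => hp _ ⟨m, hm, rfl⟩
    have hKc : Nat.card K ≤ 443520 := by
      refine (le_of_eq (Subgroup.card_map_of_injective hσinj).symm).trans ?_
      rw [← card_stabilizer_two_points none p hp0.symm, card_subgroup_M24,
        Subgroup.map_inf _ _ _ M24.subtype_injective]
      refine Subgroup.card_le_of_le ?_
      rintro _ ⟨m, hm, rfl⟩
      exact ⟨(mem_map_stabilizer none _).2 ⟨hσ24 m, hσnone m⟩, (mem_map_stabilizer p _).2 ⟨hσ24 m, hm⟩⟩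
    have heq := Subgroup.eq_of_le_of_card_ge hle (hHc ▸ hKc)
    intro m
    rw [heq]
    rfl
  choose mOf hmOf using fun y : β => exists_smul_eq M q0 y
  let F₀ : G ⧸ M → GolayPt := fun y => if h : y = base then none else σ (mOf ⟨y, h⟩) p
  have hFne : ∀ m : M, σ m p ≠ none := fun m h => hp0 ((σ m).injective (h.trans (hσnone m).symm))
  have hFbase : F₀ base = none := dif_pos rfl
  have hF₀ : ∀ m : M, F₀ ((m • q0 : β) : G ⧸ M) = σ m p := fun m => by
    show dite _ _ _ = _
    rw [dif_neg (m • q0 : β).2]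
    set m' := mOf ⟨((m • q0 : β) : G ⧸ M), (m • q0 : β).2⟩
    have hm : m' • q0 = m • q0 := hmOf _
    have hmem : m⁻¹ * m' ∈ H := by
      rw [hH, mem_stabilizer_iff, mul_smul, hm, inv_smul_smul]
    have h := (hstab2 _).2 hmem
    rw [map_mul, map_inv, Equiv.Perm.mul_apply, Equiv.Perm.inv_eq_iff_eq] at h
    exact h
  have hFinj : Function.Injective F₀ := by
    intro y z hyz
    by_cases hy : y = base <;> by_cases hz : z = base
    · rw [hy, hz]
    · exfalso
      obtain ⟨m, hm⟩ := exists_smul_eq M q0 (⟨z, hz⟩ : β)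
      rw [hy, hFbase, show z = ((m • q0 : β) : G ⧸ M) by rw [hm], hF₀] at hyz
      exact hFne m hyz.symm
    · exfalso
      obtain ⟨m, hm⟩ := exists_smul_eq M q0 (⟨y, hy⟩ : β)
      rw [hz, hFbase, show y = ((m • q0 : β) : G ⧸ M) by rw [hm], hF₀] at hyz
      exact hFne m hyz
    · obtain ⟨m, hm⟩ := exists_smul_eq M q0 (⟨y, hy⟩ : β)
      obtain ⟨n, hn⟩ := exists_smul_eq M q0 (⟨z, hz⟩ : β)
      rw [show y = ((m • q0 : β) : G ⧸ M) by rw [hm], show z = ((n • q0 : β) : G ⧸ M) by rw [hn], hF₀, hF₀] at hyz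
      have h : σ (n⁻¹ * m) p = p := by rw [map_mul, map_inv, Equiv.Perm.mul_apply, hyz, Equiv.Perm.inv_eq_iff_eq]
      have h' := (hstab2 _).1 h
      rw [hH, mem_stabilizer_iff, mul_smul, inv_smul_eq_iff, hm, hn] at h'
      exact congrArg Subtype.val h'
  have hcardPt : Fintype.card GolayPt = 24 := by decide
  let F : G ⧸ M ≃ GolayPt := Equiv.ofBijective F₀ ((Fintype.bijective_iff_injective_and_card F₀).2
    ⟨hFinj, by rw [hcardPt, ← Nat.card_eq_fintype_card, hα]⟩)
  let φ : G →* Equiv.Perm GolayPt := F.permCongrHom.toMonoidHom.comp ι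
  have hφinj : Function.Injective φ := F.permCongrHom.injective.comp hinj
  have hφ : ∀ g y, φ g (F y) = F (g • y) := fun g y => by
    show F (g • F.symm (F y)) = _
    rw [F.symm_apply_apply]
  have hFb : F base = none := hFbase
  have hφM : ∀ g, φ g none = none ↔ g ∈ M := fun g => by
    rw [← hFb, hφ, F.injective.eq_iff, hstab]
  have hφσ : ∀ m : M, φ m = σ m := fun m => Equiv.ext fun z => by
    obtain ⟨y, rfl⟩ := F.surjective z
    rw [hφ]
    by_cases hy : y = base
    · rw [hy, (hstab _).2 m.2, hFb, hσnone]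
    · obtain ⟨n, hn⟩ := exists_smul_eq M q0 (⟨y, hy⟩ : β)
      rw [show y = ((n • q0 : β) : G ⧸ M) by rw [hn]]
      show F₀ _ = σ m (F₀ _)
      rw [← hsmul, ← mul_smul, hF₀, hF₀, map_mul]
      rfl
  -- the blocks
  set B : Set (Finset GolayPt) := {X | ∃ (g : G) (o : Finset GolayPt), o ∈ octads ∧ none ∈ o ∧ φ g • o = X}
    with hB
  have hclaim : ∀ X ∈ B, none ∈ X → X ∈ octads := by
    rintro X ⟨g, o, ho, hno, rfl⟩ hX
    have hlift : ∀ h ∈ ptwise o, ∃ m : M, σ m = h := fun h hh => by
      obtain ⟨h24, hfix⟩ := mem_ptwise.1 hh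
      exact ⟨e.symm ⟨h, h24, hfix none hno⟩, congrArg Subtype.val (e.apply_symm_apply _)⟩
    refine octad_of_fixed (H := (ptwise o).map (MulAut.conj (φ g)).toMonoidHom) ?_ ?_
      (by rw [card_smul_finset', octad_card ho]) ?_
    · rintro _ ⟨h, hh, rfl⟩
      obtain ⟨m, rfl⟩ := hlift h hh
      have hfix := (mem_ptwise.1 hh).2
      obtain ⟨q, hq, hgq⟩ := Finset.mem_smul_finset.1 hX
      have hfixn : φ (g * m * g⁻¹) none = none := by
        rw [← hgq, Equiv.Perm.smul_def, map_mul, map_mul, map_inv, hφσ]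
        show φ g (σ m ((φ g)⁻¹ (φ g q))) = φ g q
        rw [show (φ g)⁻¹ (φ g q) = q from (φ g).symm_apply_apply q, hfix q hq]
      have hval : φ (g * m * g⁻¹) = σ ⟨g * m * g⁻¹, (hφM _).1 hfixn⟩ := hφσ ⟨_, (hφM _).1 hfixn⟩
      show φ g * σ m * (φ g)⁻¹ ∈ M24
      rw [← hφσ, ← map_inv, ← map_mul, ← map_mul, hval]
      exact hσ24 _
    · rw [Subgroup.card_map_of_injective (MulAut.conj (φ g)).injective]
      exact (ptwise_facts ho).1
    · rintro _ ⟨h, hh, rfl⟩ r hr
      obtain ⟨q, hq, rfl⟩ := Finset.mem_smul_finset.1 hr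
      show φ g (h ((φ g)⁻¹ (φ g q))) = φ g q
      rw [show (φ g)⁻¹ (φ g q) = q from (φ g).symm_apply_apply q, (mem_ptwise.1 hh).2 q hq]
  have hinvB : ∀ (h : G), ∀ X ∈ B, φ h • X ∈ B := by
    rintro h _ ⟨g, o, ho, hno, rfl⟩
    exact ⟨h * g, o, ho, hno, by rw [map_mul, mul_smul]⟩
  have hsteiner : IsSteinerSystem 5 8 B := by
    refine ⟨?_, fun s hs => ?_⟩
    · rintro _ ⟨g, o, ho, -, rfl⟩
      rw [card_smul_finset', octad_card ho]
    obtain ⟨r, hr⟩ := Finset.card_pos.1 (show 0 < s.card by omega)
    obtain ⟨y, rfl⟩ := F.surjective r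
    obtain ⟨g, hg⟩ := exists_smul_eq G y base
    have hgs : none ∈ φ g • s := by
      rw [← hFb, ← hg, ← hφ]
      exact Finset.smul_mem_smul_finset hr
    obtain ⟨o, ⟨ho, hso⟩, huniq⟩ := isSteinerSystem_octads.2 (φ g • s) (by rw [card_smul_finset', hs])
    refine ⟨φ g⁻¹ • o, ⟨⟨g⁻¹, o, ho, hso hgs, rfl⟩, ?_⟩, ?_⟩
    · rw [map_inv, Finset.subset_smul_finset_iff]
      simpa using hso
    · rintro Y ⟨hY, hsY⟩
      have h1 : φ g • s ⊆ φ g • Y := Finset.smul_finset_subset_smul_finset hsY
      have h2 : φ g • Y = o := huniq _ ⟨hclaim _ (hinvB g Y hY) (h1 hgs), h1⟩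
      rw [← h2, map_inv, inv_smul_smul]
  obtain ⟨π, hπ⟩ := CfsgLib.Spor.Golay.steiner_iso hcardPt hcardPt hsteiner isSteinerSystem_octads
  have hmem : ∀ g, π.permCongrHom (φ g) ∈ M24 := fun g => by
    rw [M24_eq_octad_aut]
    refine conj_mem hπ ?_
    rw [mem_setSystemAut]
    refine Set.ext fun X => ⟨?_, fun hX => ⟨φ g⁻¹ • X, hinvB _ X hX, ?_⟩⟩
    · rintro ⟨Y, hY, rfl⟩
      exact hinvB g Y hY
    · show φ g • φ g⁻¹ • X = X
      rw [map_inv, smul_inv_smul]
  let ψ : G →* M24 := (π.permCongrHom.toMonoidHom.comp φ).codRestrict M24 hmem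
  have hψ : Function.Injective ψ := fun a b h => hφinj (π.permCongrHom.injective (congrArg Subtype.val h))
  exact ⟨MulEquiv.ofBijective ψ (hψ.bijective_of_nat_card_le (by rw [card_M24, hcard]))⟩

end CfsgLib.Spor.M24Order
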