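/-
A simple group of order 244823040 with an integer valued irreducible character of degree 23
is the Mathieu group on 24 points.
-/
import Cfsg.Agent.Lib.Spor.M24Order.IndexTwentyFour
import Cfsg.Agent.Lib.Char.DefectZero
import Cfsg.Agent.Lib.Char.Galois
import Cfsg.Agent.Lib.Char.PowTwist

set_option autoImplicit false
set_option linter.style.haveILetI false
set_option linter.unusedSectionVars false

namespace CfsgLib.Spor.M24Order

open Cfsg CfsgLib.Char Module
open scoped Pointwise ComplexConjugate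

universe u

section General

variable {G : Type u} [Group G] [Finite G] [Fintype G]

open scoped _root_.Classical in
/-- The character sum over a subgroup is the dimension of its fixed space times its order. -/
theorem sum_subgroup {n : ℕ} (ρ : Representation ℂ G (Fin n → ℂ)) (H : Subgroup G) :
    ∑ g ∈ Finset.univ.filter (fun g => g ∈ H), ρ.character g =
      ((finrank ℂ (Representation.invariants (ρ.comp H.subtype)) * Nat.card H : ℕ) : ℂ) := by
  haveI := Fintype.ofFinite H
  haveI : Invertible (Nat.card H : ℂ) := invertibleOfNonzero (Nat.cast_ne_zero.2 Nat.card_pos.ne')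
  have h := FDRep.average_char_eq_finrank_invariants (FDRep.of (ρ.comp H.subtype))
  have e : ∑ g ∈ Finset.univ.filter (fun g => g ∈ H), ρ.character g =
      ∑ g : H, (FDRep.of (ρ.comp H.subtype)).character g :=
    Finset.sum_subtype _ (by simp) ρ.character
  rw [inv_mul_eq_iff_eq_mul₀ (Nat.cast_ne_zero.2 Nat.card_pos.ne')] at h
  rw [e, h, Nat.cast_mul, mul_comm]
  rfl

open scoped _root_.Classical in
/-- An integer character value squared is at most the centralizer order. -/
theorem sq_le_cent (χ : IrrCharacter G) {g : G} {k : ℤ} (hk : (χ : G → ℂ) g = k) :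
    k * k ≤ (Nat.card (Subgroup.centralizer ({g} : Set G)) : ℤ) := by
  haveI := Fintype.ofFinite (IrrCharacter G)
  have e := CfsgLib.Char.sum_irr_mul_conj g g
  rw [if_pos (IsConj.refl g)] at e
  have hre := congrArg Complex.re e
  rw [Complex.natCast_re, Complex.re_sum] at hre
  have hsub := Finset.single_le_sum
      (f := fun θ : IrrCharacter G => ((θ : G → ℂ) g * conj ((θ : G → ℂ) g)).re)
      (fun θ _ => by rw [Complex.mul_conj]; exact Complex.normSq_nonneg _) (Finset.mem_univ χ)
  rw [hre, hk] at hsub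
  simp only [map_intCast] at hsub
  have h2 : ((k * k : ℤ) : ℝ) ≤ ((Nat.card (Subgroup.centralizer ({g} : Set G)) : ℤ) : ℝ) := by
    rw [← Int.cast_mul, Complex.intCast_re] at hsub
    push_cast at hsub ⊢
    exact hsub
  exact_mod_cast h2

/-- An integer character value is unchanged by a power map prime to the group order. -/
theorem val_pow_of_int (χ : IrrCharacter G) {g : G} {k : ℤ} (hk : (χ : G → ℂ) g = k) {m : ℕ}
    (hm : m.Coprime (Nat.card G)) : (χ : G → ℂ) (g ^ m) = k := by
  obtain ⟨n, ρ, hρ⟩ := isCharacter_irr χ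
  obtain ⟨φ, hφ⟩ := exists_embedding_of_coprime (Nat.card G) Nat.card_pos.ne' m hm
  have h := char_apply_embedding ρ φ m hφ g (k : Alg) (by rw [hρ, hk]; norm_cast)
  rw [hρ, map_intCast] at h
  exact h.symm

/-- A character that is the only one of its degree is integer valued. -/
theorem int_valued_of_unique (χ : IrrCharacter G)
    (huniq : ∀ θ : IrrCharacter G, (θ : G → ℂ) 1 = (χ : G → ℂ) 1 → θ = χ) (g : G) :
    ∃ k : ℤ, (χ : G → ℂ) g = k := by
  have hint := isCharacter_isIntegral (isCharacter_irr χ) g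
  refine exists_int_of_fixed hint fun φ => ?_
  obtain ⟨m, hm, hφ⟩ := exists_char_twist (G := G) φ
  have h := hφ _ (isCharacter_irr χ) g ⟨_, mem_alg_of_isIntegral hint⟩ rfl
  rw [h]
  have e := huniq ⟨_, isIrrCharacter_powMap hm.symm χ⟩ (by simp)
  exact congrFun (congrArg Subtype.val e) g

/-- Inside a subgroup, the subgroups of order `p` conjugate to a given one number one modulo `p`. -/
theorem sylow_count {p : ℕ} [hp : Fact p.Prime] (hG : ¬ p ^ 2 ∣ Nat.card G) {K Q : Subgroup G}
    (hQK : Q ≤ K) (hQ : Nat.card Q = p) :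
    ∃ n : ℕ, n * Nat.card (Subgroup.normalizer (Q : Set G) ⊓ K : Subgroup G) = Nat.card K ∧
      n % p = 1 := by
  have hQ' : Nat.card (Q.subgroupOf K) = p := by
    rw [Nat.card_congr (Subgroup.subgroupOfEquivOfLe hQK).toEquiv, hQ]
  obtain ⟨S, hS⟩ := (IsPGroup.of_card (p := p) (n := 1) (G := Q.subgroupOf K)
    (by rw [hQ', pow_one])).exists_le_sylow
  have hSeq : Q.subgroupOf K = (S : Subgroup K) := by
    obtain ⟨j, hj⟩ := IsPGroup.iff_card.1 S.2
    have hdvd : p ^ j ∣ Nat.card G :=
      hj ▸ (Subgroup.card_subgroup_dvd_card _).trans (Subgroup.card_subgroup_dvd_card K)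
    have hj1 : j ≤ 1 := by
      by_contra hlt
      exact hG ((pow_dvd_pow p (by omega)).trans hdvd)
    refine Subgroup.eq_of_le_of_card_ge hS ?_
    rw [hQ', hj]
    calc p ^ j ≤ p ^ 1 := Nat.pow_le_pow_right hp.out.pos hj1
      _ = p := pow_one p
  refine ⟨Nat.card (Sylow p K), ?_, ?_⟩
  · have h2 := Subgroup.card_mul_index (Subgroup.normalizer ((Q.subgroupOf K : Subgroup K) : Set K))
    have h3 : Nat.card (Sylow p K) =
        (Subgroup.normalizer ((Q.subgroupOf K : Subgroup K) : Set K)).index := by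
      rw [hSeq]; exact S.card_eq_index_normalizer
    rw [← h2, ← h3, mul_comm]
    congr 1
    have e : (Subgroup.normalizer (Q : Set G) ⊓ K).subgroupOf K =
        Subgroup.normalizer ((Q.subgroupOf K : Subgroup K) : Set K) := by
      rw [Subgroup.inf_subgroupOf_right, Subgroup.subgroupOf_normalizer_eq hQK]
    rw [← e, Nat.card_congr (Subgroup.subgroupOfEquivOfLe inf_le_right).toEquiv]
  · have h := card_sylow_modEq_one p K
    unfold Nat.ModEq at h
    rw [h, Nat.mod_eq_of_lt hp.out.one_lt]

/-- In a simple group the index of a proper subgroup is at least every prime divisor of the order. -/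
theorem le_index_of_prime_dvd [IsSimpleGroup G] {p : ℕ} (hp : p.Prime) (hpG : p ∣ Nat.card G)
    (M : Subgroup G) (hM : M ≠ ⊤) : p ≤ M.index := by
  have hker : (MulAction.toPermHom G (G ⧸ M)).ker = ⊥ := by
    refine (IsSimpleGroup.eq_bot_or_eq_top_of_normal _ inferInstance).resolve_right fun e => hM ?_
    rw [eq_top_iff, ← e, ← Subgroup.normalCore_eq_ker]
    exact Subgroup.normalCore_le M
  have hle := Subgroup.card_dvd_of_injective _ ((MonoidHom.ker_eq_bot_iff _).1 hker)
  rw [Nat.card_perm] at hle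
  exact (hp.dvd_factorial).1 (hpG.trans hle)

end General

/-- The arithmetic of the order of the stabilizer of a fixed line. -/
theorem stab_arith {M i s n L : ℕ} (hM : M = 253 * s) (hi : M * i = 244823040)
    (hs : s % 23 = 1) (h5 : 5 ∣ M) (hL : L = 55 ∨ L = 110) (hn : n * L = M) (hn1 : n % 11 = 1)
    (h23 : 23 ≤ i) : i = 24 := by
  have h5s : 5 ∣ s := (Nat.Coprime.dvd_mul_left (k := 5) (m := 253) (by norm_num)).1 (hM ▸ h5)
  obtain ⟨t, rfl⟩ := h5s
  have hti : t * i = 193536 := by
    subst hM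
    have : 1265 * (t * i) = 1265 * 193536 := by linarith
    omega
  have hdvd : t ∣ 1024 * (27 * 7) := ⟨i, by omega⟩
  obtain ⟨t₁, r, ht₁, hr, rfl⟩ := Nat.dvd_mul.1 hdvd
  obtain ⟨t₂, t₃, ht₂, ht₃, rfl⟩ := Nat.dvd_mul.1 hr
  obtain ⟨a, ha, rfl⟩ := (Nat.dvd_prime_pow Nat.prime_two).1 (show t₁ ∣ 2 ^ 10 by simpa using ht₁)
  obtain ⟨b, hb, rfl⟩ := (Nat.dvd_prime_pow Nat.prime_three).1 (show t₂ ∣ 3 ^ 3 by simpa using ht₂)
  have key : ∀ a < 11, ∀ b < 4, ∀ c ∈ [1, 7],
      5 * (2 ^ a * (3 ^ b * c)) % 23 = 1 → 23 * (2 ^ a * (3 ^ b * c)) ≤ 193536 →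
      (23 * (2 ^ a * (3 ^ b * c)) % 11 = 1 ∨
        (23 * (2 ^ a * (3 ^ b * c)) % 2 = 0 ∧ 23 * (2 ^ a * (3 ^ b * c)) / 2 % 11 = 1)) →
      24 * (2 ^ a * (3 ^ b * c)) = 193536 := by decide
  have hc : t₃ ∈ [1, 7] := by
    rcases (Nat.dvd_prime (by norm_num)).1 ht₃ with h | h <;> simp [h]
  have h1 := key a (by omega) b (by omega) t₃ hc hs
  generalize 2 ^ a * (3 ^ b * t₃) = t at *
  have hle : 23 * t ≤ 193536 := by
    rw [← hti, mul_comm 23 t]
    exact Nat.mul_le_mul_left t h23
  have h2 := h1 hle (by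
    rcases hL with rfl | rfl
    · left
      have : n = 23 * t := by omega
      omega
    · right
      have : 2 * n = 23 * t := by omega
      constructor <;> omega)
  have ht : t = 8064 := by omega
  subst ht
  omega

variable {G : Type u} [Group G] [Finite G] [IsSimpleGroup G]

/-- A simple group of order 244823040 with the local data at 23 and 11 and an integer valued
irreducible character of degree 23 is `M24`. -/
theorem exists_index_of_degree (hcard : Nat.card G = 244823040)
    (h23n : ∀ P : Subgroup G, Nat.card P = 23 →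
      Nat.card (Subgroup.normalizer (P : Set G)) = 253)
    (h11c : ∀ x : G, orderOf x = 11 → Nat.card (Subgroup.centralizer ({x} : Set G)) = 11)
    (h11n : ∀ P : Subgroup G, Nat.card P = 11 →
      Nat.card (Subgroup.normalizer (P : Set G)) = 110)
    (χ : IrrCharacter G) (hdeg : (χ : G → ℂ) 1 = 23)
    (hint : ∀ g : G, ∃ k : ℤ, (χ : G → ℂ) g = k) : ∃ M : Subgroup G, M.index = 24 := by
  classical
  letI := Fintype.ofFinite G
  haveI : Fact (Nat.Prime 23) := ⟨by norm_num⟩
  haveI : Fact (Nat.Prime 11) := ⟨by norm_num⟩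
  haveI : Fact (Nat.Prime 5) := ⟨by norm_num⟩
  have hconj : ∀ g h : G, (χ : G → ℂ) (h * g * h⁻¹) = (χ : G → ℂ) g :=
    fun g h => isClassFunction_irr χ g h
  -- values at 23-singular elements
  have h23v : ∀ x : G, 23 ∣ orderOf x → (χ : G → ℂ) x = 0 := fun x hx =>
    char_defect_zero_vanishes χ (p := 23) (n := 1) (d := 23) (by rw [hcard]; norm_num)
      (by rw [hcard]; norm_num) (by rw [hdeg]; norm_num) (by norm_num) hx
  obtain ⟨n, ρ, hρi, hρ⟩ := χ.2
  haveI := hρi
  have hn : n = 23 := by
    have h := Representation.char_one ρ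
    rw [hρ, hdeg, Module.finrank_fin_fun] at h
    exact_mod_cast h.symm
  have hsum : ∀ H : Subgroup G, ∑ g ∈ Finset.univ.filter (fun g => g ∈ H), (χ : G → ℂ) g =
      ((finrank ℂ (Representation.invariants (ρ.comp H.subtype)) * Nat.card H : ℕ) : ℂ) :=
    fun H => hρ ▸ sum_subgroup ρ H
  -- the values on elements of order 11
  have h11v : ∀ a : G, orderOf a = 11 → (χ : G → ℂ) a = 1 ∧
      finrank ℂ (Representation.invariants (ρ.comp (Subgroup.zpowers a).subtype)) = 3 := by
    intro a ha
    set A := Subgroup.zpowers a with hA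
    have hAc : Nat.card A = 11 := by rw [hA, Nat.card_zpowers, ha]
    set N := Subgroup.normalizer (A : Set G) with hN
    set SN := Finset.univ.filter (fun g => g ∈ N) with hSN
    set S := (Finset.univ.filter (fun g => g ∈ A)).erase 1 with hS
    have hcA : (Finset.univ.filter (fun g => g ∈ A)).card = 11 := by
      rw [← Fintype.card_subtype, ← Nat.card_eq_fintype_card]; exact hAc
    have hScard : S.card = 10 := by
      rw [hS, Finset.card_erase_of_mem (by simp [one_mem]), hcA]
    have himg : SN.image (fun g => g * a * g⁻¹) ⊆ S := by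
      intro y hy
      obtain ⟨g, hg, rfl⟩ := Finset.mem_image.1 hy
      have hgN : g ∈ N := by simpa [hSN] using hg
      refine Finset.mem_erase.2 ⟨?_, Finset.mem_filter.2 ⟨Finset.mem_univ _, ?_⟩⟩
      · intro h1
        rw [conj_eq_one_iff] at h1
        rw [h1, orderOf_one] at ha
        norm_num at ha
      · exact (Subgroup.mem_normalizer_iff.1 hgN a).1 (Subgroup.mem_zpowers a)
    have hfib : ∀ y ∈ SN.image (fun g => g * a * g⁻¹),
        (SN.filter (fun g => g * a * g⁻¹ = y)).card ≤ 11 := by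
      intro y hy
      obtain ⟨g₀, -, rfl⟩ := Finset.mem_image.1 hy
      have hC : (Finset.univ.filter
          (fun c => c ∈ Subgroup.centralizer ({a} : Set G))).card = 11 := by
        rw [← Fintype.card_subtype, ← Nat.card_eq_fintype_card]; exact h11c a ha
      rw [← hC]
      refine Finset.card_le_card_of_injOn (fun g => g₀⁻¹ * g) ?_
        (fun g _ g' _ h => mul_left_cancel h)
      intro g hg
      have hg' := (Finset.mem_filter.1 (Finset.mem_coe.1 hg)).2
      refine Finset.mem_coe.2 (Finset.mem_filter.2 ⟨Finset.mem_univ _, ?_⟩)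
      rw [Subgroup.mem_centralizer_singleton_iff]
      calc g₀⁻¹ * g * a = g₀⁻¹ * (g * a * g⁻¹) * g := by group
        _ = g₀⁻¹ * (g₀ * a * g₀⁻¹) * g := by rw [hg']
        _ = a * (g₀⁻¹ * g) := by group
    have hSNc : SN.card = 110 := by
      rw [hSN, ← Fintype.card_subtype, ← Nat.card_eq_fintype_card]; exact h11n A hAc
    have heq : SN.image (fun g => g * a * g⁻¹) = S := by
      refine Finset.eq_of_subset_of_card_le himg ?_
      have := Finset.card_le_mul_card_image SN 11 hfib
      omega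
    obtain ⟨k, hk⟩ := hint a
    have hval : ∀ y ∈ S, (χ : G → ℂ) y = k := by
      intro y hy
      rw [← heq] at hy
      obtain ⟨g, -, rfl⟩ := Finset.mem_image.1 hy
      rw [hconj, hk]
    have h1 := hsum A
    rw [← Finset.add_sum_erase _ _ (show (1 : G) ∈ Finset.univ.filter (fun g => g ∈ A) by
      simp [one_mem]), ← hS, Finset.sum_congr rfl hval, Finset.sum_const, hScard, hdeg, hAc,
      nsmul_eq_mul] at h1
    set d := finrank ℂ (Representation.invariants (ρ.comp A.subtype)) with hd
    have hz : (23 : ℤ) + 10 * k = (d : ℤ) * 11 := by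
      apply Int.cast_injective (α := ℂ)
      push_cast at h1 ⊢
      exact h1
    have hb := sq_le_cent χ hk
    rw [h11c a ha] at hb
    push_cast at hb
    have hk1 : -3 ≤ k ∧ k ≤ 3 := ⟨by nlinarith, by nlinarith⟩
    have hk2 : k = 1 := by omega
    refine ⟨by rw [hk, hk2]; norm_num, by omega⟩
  -- the normalizer of a Sylow 23-subgroup
  obtain ⟨x, hx⟩ := exists_prime_orderOf_dvd_card' (G := G) 23 (by rw [hcard]; norm_num)
  set P := Subgroup.zpowers x with hP
  have hPc : Nat.card P = 23 := by rw [hP, Nat.card_zpowers, hx]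
  set R := Subgroup.normalizer (P : Set G) with hR
  have hRc : Nat.card R = 253 := h23n P hPc
  have hRv : ∀ g ∈ R, g ≠ 1 → (χ : G → ℂ) g = if orderOf g = 11 then 1 else 0 := by
    intro g hg hg1
    have hdvd : orderOf g ∣ 11 * 23 := by
      have := Subgroup.orderOf_dvd_natCard R hg
      rw [hRc] at this
      exact this
    obtain ⟨u, v, hu, hv, huv⟩ := Nat.dvd_mul.1 hdvd
    by_cases h23 : 23 ∣ orderOf g
    · rw [if_neg ?_, h23v g h23]
      intro h11; rw [h11] at h23; norm_num at h23
    · have hv1 : v = 1 := ((Nat.dvd_prime (by norm_num)).1 hv).resolve_right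
        fun e => h23 ⟨u, by rw [← huv, e, mul_comm]⟩
      rcases (Nat.dvd_prime (by norm_num)).1 hu with h | h
      · exact absurd (orderOf_eq_one_iff.1 (by rw [← huv, h, hv1])) hg1
      · have h11 : orderOf g = 11 := by rw [← huv, h, hv1]
        rw [if_pos h11, (h11v g h11).1]
  have hfixR : Representation.invariants (ρ.comp R.subtype) ≠ ⊥ := by
    intro hbot
    have h1 := hsum R
    rw [hbot, finrank_bot, zero_mul, Nat.cast_zero,
      ← Finset.add_sum_erase _ _ (show (1 : G) ∈ Finset.univ.filter (fun g => g ∈ R) by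
        simp [one_mem]), hdeg,
      Finset.sum_congr rfl (fun g hg => hRv g (by simpa using (Finset.mem_erase.1 hg).2)
        (Finset.mem_erase.1 hg).1), Finset.sum_boole] at h1
    have h2 := h1
    norm_cast at h2
    omega
  obtain ⟨w, hw, hw0⟩ := Submodule.exists_mem_ne_zero_of_ne_bot hfixR
  have hwR : ∀ g ∈ R, ρ g w = w := fun g hg => hw ⟨g, hg⟩
  obtain ⟨a', ha'⟩ := exists_prime_orderOf_dvd_card' (G := R) 11 (by rw [hRc]; norm_num)
  set a : G := (a' : G) with haR
  have ha : orderOf a = 11 := by rw [haR, Subgroup.orderOf_coe, ha']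
  set A := Subgroup.zpowers a with hA
  have hAc : Nat.card A = 11 := by rw [hA, Nat.card_zpowers, ha]
  set N := Subgroup.normalizer (A : Set G) with hN
  have hNc : Nat.card N = 110 := h11n A hAc
  obtain ⟨b', hb'⟩ := exists_prime_orderOf_dvd_card' (G := N) 5 (by rw [hNc]; norm_num)
  set b : G := (b' : G) with hbN
  have hb : orderOf b = 5 := by rw [hbN, Subgroup.orderOf_coe, hb']
  set B := Subgroup.zpowers b with hB
  have hBc : Nat.card B = 5 := by rw [hB, Nat.card_zpowers, hb]
  have hBN : B ≤ N := Subgroup.zpowers_le.2 b'.2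
  set H := A ⊔ B with hH
  have hHset : (H : Set G) = (A : Set G) * (B : Set G) :=
    Subgroup.coe_mul_of_right_le_normalizer_left A B hBN
  -- values on the elements of order five
  obtain ⟨s, hs⟩ := hint b
  have hbpow : ∀ j : ℕ, 0 < j → j < 5 → (χ : G → ℂ) (b ^ j) = s := by
    intro j h0 h5
    obtain ⟨m, hmod, hcop⟩ : ∃ m : ℕ, m % 5 = j ∧ m.Coprime (Nat.card G) := by
      interval_cases j
      · exact ⟨1, rfl, Nat.coprime_one_left _⟩
      · exact ⟨17, rfl, by rw [hcard]; norm_num⟩
      · exact ⟨13, rfl, by rw [hcard]; norm_num⟩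
      · exact ⟨29, rfl, by rw [hcard]; norm_num⟩
    rw [← hmod, ← hb, pow_mod_orderOf]
    exact val_pow_of_int χ hs hcop
  have hABone : ∀ y : G, y ∈ A → y ∈ B → y = 1 := by
    intro y hyA hyB
    have h1 := Subgroup.orderOf_dvd_natCard A hyA
    have h2 := Subgroup.orderOf_dvd_natCard B hyB
    rw [hAc] at h1
    rw [hBc] at h2
    have := Nat.dvd_gcd h1 h2
    norm_num at this
    exact this
  have hcomm : ∀ y ∈ A, ∀ z ∈ B, z ≠ 1 → y * z = z * y → y = 1 := by
    intro y hy z hz hz1 he
    by_contra hy1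
    have hy11 : orderOf y = 11 := by
      have h1 := Subgroup.orderOf_dvd_natCard A hy
      rw [hAc] at h1
      exact ((Nat.dvd_prime (by norm_num)).1 h1).resolve_left
        (fun e => hy1 (orderOf_eq_one_iff.1 e))
    have h2 := Subgroup.orderOf_dvd_natCard _
      (Subgroup.mem_centralizer_singleton_iff.2 he.symm :
        z ∈ Subgroup.centralizer ({y} : Set G))
    rw [h11c y hy11] at h2
    have h3 := Subgroup.orderOf_dvd_natCard B hz
    rw [hBc] at h3
    have := Nat.dvd_gcd h2 h3
    norm_num at this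
    exact hz1 this
  set SA := Finset.univ.filter (fun g => g ∈ A) with hSA
  have hcA : SA.card = 11 := by
    rw [hSA, ← Fintype.card_subtype, ← Nat.card_eq_fintype_card]; exact hAc
  have hBpow : ∀ z ∈ B, ∃ j : ℕ, j < 5 ∧ b ^ j = z := by
    intro z hz
    obtain ⟨j, hj⟩ := (mem_powers_iff_mem_zpowers.2 hz : z ∈ Submonoid.powers b)
    exact ⟨j % 5, Nat.mod_lt _ (by norm_num), by rw [← hb, pow_mod_orderOf]; exact hj⟩
  have hcoset : ∀ j : ℕ, 0 < j → j < 5 → ∀ y ∈ A, (χ : G → ℂ) (y * b ^ j) = s := by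
    intro j h0 h5 y hy
    have hzB : b ^ j ∈ B := pow_mem (Subgroup.mem_zpowers b) j
    have hz1 : b ^ j ≠ 1 := by
      intro e
      have := orderOf_dvd_of_pow_eq_one e
      rw [hb] at this
      have := Nat.le_of_dvd h0 this
      omega
    have hnorm : ∀ u ∈ A, b ^ j * u * (b ^ j)⁻¹ ∈ A := fun u hu =>
      (Subgroup.mem_normalizer_iff.1 (hBN hzB) u).1 hu
    have hsub : SA.image (fun u => u * b ^ j * u⁻¹ * (b ^ j)⁻¹) ⊆ SA := by
      intro v hv
      obtain ⟨u, hu, rfl⟩ := Finset.mem_image.1 hv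
      have hu' : u ∈ A := by simpa [hSA] using hu
      have e : u * b ^ j * u⁻¹ * (b ^ j)⁻¹ = u * (b ^ j * u⁻¹ * (b ^ j)⁻¹) := by group
      simp only [hSA, Finset.mem_filter, Finset.mem_univ, true_and]
      rw [e]
      exact mul_mem hu' (hnorm _ (inv_mem hu'))
    have himg : SA.image (fun u => u * b ^ j * u⁻¹ * (b ^ j)⁻¹) = SA := by
      refine Finset.eq_of_subset_of_card_le hsub ?_
      rw [Finset.card_image_of_injOn]
      intro u hu u' hu' e
      have huA : u ∈ A := by simpa [hSA] using hu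
      have huA' : u' ∈ A := by simpa [hSA] using hu'
      have e1 : u * b ^ j * u⁻¹ = u' * b ^ j * u'⁻¹ := mul_right_cancel e
      have e2 : u'⁻¹ * u * b ^ j = b ^ j * (u'⁻¹ * u) := by
        calc u'⁻¹ * u * b ^ j = u'⁻¹ * (u * b ^ j * u⁻¹) * u := by group
          _ = u'⁻¹ * (u' * b ^ j * u'⁻¹) * u := by rw [e1]
          _ = b ^ j * (u'⁻¹ * u) := by group
      have e3 := hcomm _ (mul_mem (inv_mem huA') huA) _ hzB hz1 e2
      exact (inv_mul_eq_one.1 e3).symm
    have hyS : y ∈ SA.image (fun u => u * b ^ j * u⁻¹ * (b ^ j)⁻¹) := by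
      rw [himg]; simp [hSA, hy]
    obtain ⟨u, -, hu⟩ := Finset.mem_image.1 hyS
    have : y * b ^ j = u * b ^ j * u⁻¹ := by rw [← hu]; group
    rw [this, hconj, hbpow j h0 h5]
  have hSH : Finset.univ.filter (fun g => g ∈ H) =
      (SA ×ˢ Finset.range 5).image (fun q => q.1 * b ^ q.2) := by
    ext g
    simp only [Finset.mem_filter, Finset.mem_univ, true_and, Finset.mem_image, Finset.mem_product,
      Finset.mem_range, hSA]
    rw [← SetLike.mem_coe, hHset]
    constructor
    · rintro ⟨y, hy, z, hz, rfl⟩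
      obtain ⟨j, hj, rfl⟩ := hBpow z hz
      exact ⟨(y, j), ⟨hy, hj⟩, rfl⟩
    · rintro ⟨⟨y, j⟩, ⟨hy, -⟩, rfl⟩
      exact Set.mul_mem_mul hy (pow_mem (Subgroup.mem_zpowers b) j)
  have hinj : Set.InjOn (fun q : G × ℕ => q.1 * b ^ q.2)
      ((SA ×ˢ Finset.range 5 : Finset (G × ℕ)) : Set (G × ℕ)) := by
    rintro ⟨y, i⟩ hq ⟨y', i'⟩ hq' e
    simp only [Finset.coe_product, Set.mem_prod, Finset.mem_coe, hSA, Finset.mem_filter,
      Finset.mem_univ, true_and, Finset.mem_range] at hq hq'
    simp only at e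
    have e2 : y'⁻¹ * y = b ^ i' * (b ^ i)⁻¹ := by
      calc y'⁻¹ * y = y'⁻¹ * (y * b ^ i) * (b ^ i)⁻¹ := by group
        _ = y'⁻¹ * (y' * b ^ i') * (b ^ i)⁻¹ := by rw [e]
        _ = b ^ i' * (b ^ i)⁻¹ := by group
    have h1 := hABone _ (mul_mem (inv_mem hq'.1) hq.1) (e2 ▸ mul_mem
      (pow_mem (Subgroup.mem_zpowers b) i') (inv_mem (pow_mem (Subgroup.mem_zpowers b) i)))
    have hy : y = y' := (inv_mul_eq_one.1 h1).symm
    subst hy
    have hpow : b ^ i = b ^ i' := mul_left_cancel e
    rw [pow_inj_mod, hb, Nat.mod_eq_of_lt hq.2, Nat.mod_eq_of_lt hq'.2] at hpow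
    exact Prod.ext rfl hpow
  have hHc : Nat.card H = 55 := by
    have h := congrArg Finset.card hSH
    rw [Finset.card_image_of_injOn hinj, Finset.card_product, hcA, Finset.card_range,
      ← Fintype.card_subtype, ← Nat.card_eq_fintype_card] at h
    exact h
  obtain ⟨hav, had⟩ := h11v a ha
  have hH1 := hsum H
  have hA1 := hsum A
  rw [hHc, hSH, Finset.sum_image hinj, Finset.sum_product,
    Finset.sum_congr rfl (fun y hy => by
      rw [Finset.sum_range_succ', Finset.sum_congr rfl (fun j hj => hcoset (j + 1) (by omega)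
        (by rw [Finset.mem_range] at hj; omega) y (by simpa [hSA] using hy)),
        Finset.sum_const, Finset.card_range, pow_zero, mul_one])] at hH1
  rw [← hSA, had, hAc] at hA1
  rw [Finset.sum_add_distrib, Finset.sum_const, hcA, hA1, nsmul_eq_mul, nsmul_eq_mul] at hH1
  set dH := finrank ℂ (Representation.invariants (ρ.comp H.subtype)) with hdH
  have hz : 44 * s + 33 = (dH : ℤ) * 55 := by
    apply Int.cast_injective (α := ℂ)
    push_cast at hH1 ⊢
    linear_combination hH1
  have hmono : Representation.invariants (ρ.comp H.subtype) ≤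
      Representation.invariants (ρ.comp A.subtype) :=
    fun v hv g => hv ⟨(g : G), (le_sup_left : A ≤ H) g.2⟩
  have hdle : dH ≤ 3 := had ▸ Submodule.finrank_mono hmono
  have hinv := Submodule.eq_of_le_of_finrank_eq hmono (by rw [had]; omega)
  have hwA : w ∈ Representation.invariants (ρ.comp A.subtype) := fun g =>
    hwR g ((Subgroup.zpowers_le.2 a'.2) g.2)
  have hwb : ρ b w = w := by
    rw [← hinv] at hwA
    exact hwA ⟨b, (le_sup_right : B ≤ H) (Subgroup.mem_zpowers b)⟩
  -- the stabilizer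
  let M : Subgroup G :=
    { carrier := {g | ρ g w = w}
      one_mem' := by simp
      mul_mem' := fun {g h} hg hh => by
        show ρ (g * h) w = w
        rw [map_mul, Module.End.mul_apply, hh, hg]
      inv_mem' := fun {g} hg => by
        show ρ g⁻¹ w = w
        conv_lhs => rw [← hg]
        rw [← Module.End.mul_apply, ← map_mul, inv_mul_cancel, map_one, Module.End.one_apply] }
  have hRM : R ≤ M := fun g hg => hwR g hg
  have hbM : b ∈ M := hwb
  have hMtop : M ≠ ⊤ := by
    intro htop
    have hfull : w ∈ Representation.invariants (ρ.comp (⊤ : Subgroup G).subtype) := fun g =>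
      (htop.symm ▸ Subgroup.mem_top (g : G) : (g : G) ∈ M)
    have h1 := hsum ⊤
    have huniv : Finset.univ.filter (fun g : G => g ∈ (⊤ : Subgroup G)) = Finset.univ := by simp
    rw [huniv] at h1
    have hne : χ ≠ ⟨_, isIrrCharacter_one (G := G)⟩ := fun e => by
      have := congrFun (congrArg Subtype.val e) 1
      rw [hdeg] at this
      norm_num at this
    have h0 := classInner_irr_ne hne
    simp only [classInner, map_one, mul_one] at h0
    rw [h1] at h0
    rcases mul_eq_zero.1 h0 with h | h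
    · exact Nat.card_pos.ne' (Nat.cast_eq_zero.1 (inv_eq_zero.1 h) : Nat.card G = 0)
    · have h2 := Nat.cast_eq_zero.1 h
      rw [Subgroup.card_top, hcard] at h2
      have h3 : finrank ℂ (Representation.invariants (ρ.comp (⊤ : Subgroup G).subtype)) = 0 := by
        omega
      rw [Submodule.finrank_eq_zero] at h3
      rw [h3, Submodule.mem_bot] at hfull
      exact hw0 hfull
  refine ⟨M, ?_⟩
  have hPR : P ≤ R := Subgroup.le_normalizer
  have haM : a ∈ M := hRM a'.2
  obtain ⟨n₁, hn₁, hn₁'⟩ := sylow_count (p := 23) (by rw [hcard]; norm_num) (hPR.trans hRM) hPc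
  rw [← hR, inf_eq_left.2 hRM, hRc] at hn₁
  obtain ⟨n₂, hn₂, hn₂'⟩ := sylow_count (p := 11) (by rw [hcard]; norm_num)
    (Subgroup.zpowers_le.2 haM : A ≤ M) hAc
  have hL1 : 55 ∣ Nat.card (N ⊓ M : Subgroup G) := by
    refine Nat.Coprime.mul_dvd_of_dvd_of_dvd (m := 11) (n := 5) (by norm_num) ?_ ?_
    · rw [← ha]
      exact Subgroup.orderOf_dvd_natCard _ ⟨Subgroup.le_normalizer (Subgroup.mem_zpowers a), haM⟩
    · rw [← hb]
      exact Subgroup.orderOf_dvd_natCard _ ⟨b'.2, hbM⟩
  have hL2 : Nat.card (N ⊓ M : Subgroup G) ∣ 110 :=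
    hNc ▸ Subgroup.card_dvd_of_le inf_le_left
  have h5M : 5 ∣ Nat.card M := hb ▸ Subgroup.orderOf_dvd_natCard M hbM
  have hi := Subgroup.card_mul_index M
  rw [hcard] at hi
  refine stab_arith (M := Nat.card M) (i := M.index) (s := n₁) (n := n₂)
    (L := Nat.card (N ⊓ M : Subgroup G)) (by rw [← hn₁, mul_comm]) hi hn₁' h5M ?_ hn₂ hn₂'
    (le_index_of_prime_dvd (p := 23) (by norm_num) (by rw [hcard]; norm_num) M hMtop)
  obtain ⟨q, hq⟩ := hL1
  rw [hq] at hL2 ⊢
  have hq2 : q ∣ 2 := Nat.dvd_of_mul_dvd_mul_left (k := 55) (by norm_num) hL2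
  rcases (Nat.dvd_prime Nat.prime_two).1 hq2 with h | h <;> omega

/-- A simple group of order 244823040 with the local data at 23 and 11 and an integer valued
irreducible character of degree 23 is `M24`. -/
theorem iso_of_degree (hcard : Nat.card G = 244823040)
    (h23n : ∀ P : Subgroup G, Nat.card P = 23 →
      Nat.card (Subgroup.normalizer (P : Set G)) = 253)
    (h11c : ∀ x : G, orderOf x = 11 → Nat.card (Subgroup.centralizer ({x} : Set G)) = 11)
    (h11n : ∀ P : Subgroup G, Nat.card P = 11 →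
      Nat.card (Subgroup.normalizer (P : Set G)) = 110)
    (χ : IrrCharacter G) (hdeg : (χ : G → ℂ) 1 = 23)
    (hint : ∀ g : G, ∃ k : ℤ, (χ : G → ℂ) g = k) : Nonempty (G ≃* Cfsg.M24) := by
  obtain ⟨M, hM⟩ := exists_index_of_degree hcard h23n h11c h11n χ hdeg hint
  exact iso_of_index hcard M hM

end CfsgLib.Spor.M24Order
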